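import Cfsg.Agent.H654.Van.SL
import Cfsg.Agent.H654.Two.F4Row
import Cfsg.Agent.H378.ExcAdj
import Cfsg.Agent.H720.PV.Tools
import Cfsg.Agent.H620.RowClass

/-!
# S4987: the row of `F₄(q)` (helper654)

* `orders` : elements of the tori; `hasDZ_F4` : characters of `p`-defect zero for the order of `q` modulo `p` in
  `{3, 4, 6, 8, 12}` (`p ≥ 5`);
* `row_F4`.
-/

set_option autoImplicit false
set_option linter.unusedSectionVars false

namespace Cfsg.Agent.H654.Van.F4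

open CoxeterSystem Cfsg Cfsg.Lie Cfsg.Lie.ChevalleyDatum
open Cfsg.Agent.ChevalleyStructure Cfsg.Agent.ChevalleyStructure.Elts Cfsg.Agent.ChevalleyStructure.CoxeterGeom
  Cfsg.Agent.ChevalleyStructure.CoxeterGeomTypes Cfsg.Agent.ChevalleyStructure.NPerm
open Cfsg.Agent.Tits.Roots Cfsg.Agent.Tits.Core Cfsg.Agent.Nodes.Reps Cfsg.Agent.Nodes.BNOf
  Cfsg.Agent.Nodes.RGDChev Cfsg.Agent.Nodes.Bruhat
open Cfsg.Agent.H35.ExcIdx Cfsg.Agent.H53.HC.ExcRows Cfsg.Agent.H654.Two.F4Row Cfsg.Agent.H654.Two.F4Char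
open Cfsg.Agent.BpExc.RowsUntw (f4T)
open Cfsg.Agent.BpExc.FamInst (inv_F4)
open Cfsg.Agent.H387.VO Cfsg.Agent.H620 Cfsg.Agent.H720.PV Cfsg.Agent.H378.AdjTab Cfsg.Agent.H378.ExcAdj
  Cfsg.Agent.H378.CycTab Cfsg.Agent.H378 Cfsg.Agent.H129.WData Cfsg.Agent.H493.PGTorus

universe u

open Cfsg.Agent.BpExc.TorCent in
/-- elements of the tori from a row -/
theorem exists_of_chain {l : ℕ} {D : ChevalleyDatum} {M : CoxeterMatrix (Fin l)} (hp : IsType D l M)
    {B : Fin l → Fin l → ℤ} (hB : H129.TorusChar.InvC D l 1 B) {A : Mat l}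
    (hA : ∀ i j, A i j = cartanOf D l i j) {L : List (Fin l × Mat l)} (hL : ChainOK A L)
    {f : ℕ} {c : Fin (f + 1) → ℤ} {V : Fin (f + 1) → Fin l → ℤ} {U : Fin l → ℤ} (h : EigOK (hd L) c V U)
    {F : Type u} [Field F] [Finite F] {m : ℕ} (hm : 0 < m) (hdv : (m : ℤ) ∣ pv c (Nat.card F : ℕ)) :
    ∃ x : ↥(D.group F), orderOf x = m := by
  let cs : CoxeterSystem M M.Group := M.toCoxeterSystem
  have := finite_W hp cs
  obtain ⟨φ, hφ⟩ := exists_hom' hp cs hB one_ne_zero (F := F) (cs.wordProd (L.map Prod.fst))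
  obtain ⟨x, hx⟩ := exists_order_row hp cs hA hL h (Finite.one_lt_card (α := F)) hm hdv
  refine ⟨φ x, ?_⟩
  rw [orderOf_injective φ, hx]
  rw [injective_iff_map_eq_one]
  intro y hy
  have := hφ y hy
  rwa [Nat.gcd_one_left, pow_one] at this

section arith

/-- if `N = d * C` and `p ∤ C` then the `p`-part of `N` divides `d` -/
theorem pow_dvd_of {N d C p : ℕ} (hp : p.Prime) (hN : N = d * C) (hC : ¬ p ∣ C) :
    p ^ N.factorization p ∣ d := by
  have h1 : p ^ N.factorization p ∣ d * C := by rw [← hN]; exact Nat.ordProj_dvd N p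
  exact (Nat.Coprime.pow_left _ ((Nat.Prime.coprime_iff_not_dvd hp).2 hC)).dvd_of_dvd_mul_right h1

variable {q : ℕ} (hq : 1 ≤ q)

include hq

theorem fac : q ^ 4 - 1 = (q ^ 2 + 1) * (q ^ 2 - 1) ∧ q ^ 6 - 1 = (q ^ 4 + q ^ 2 + 1) * (q ^ 2 - 1) ∧
    q ^ 8 - 1 = (q ^ 4 + 1) * ((q ^ 2 + 1) * (q ^ 2 - 1)) ∧
    q ^ 12 - 1 = (q ^ 4 - q ^ 2 + 1) * ((q ^ 2 + 1) * ((q ^ 4 + q ^ 2 + 1) * (q ^ 2 - 1))) := by
  obtain ⟨s, hs⟩ : ∃ s, q ^ 2 = s + 1 := ⟨q ^ 2 - 1, by have : 1 ≤ q ^ 2 := Nat.one_le_pow _ _ hq; omega⟩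
  have e4 : q ^ 4 = (s + 1) ^ 2 := by rw [← hs]; ring
  have e6 : q ^ 6 = (s + 1) ^ 3 := by rw [← hs]; ring
  have e8 : q ^ 8 = (s + 1) ^ 4 := by rw [← hs]; ring
  have e12 : q ^ 12 = (s + 1) ^ 6 := by rw [← hs]; ring
  have h1 : (s + 1) ^ 2 - (s + 1) + 1 = s * (s + 1) + 1 := by
    have : (s + 1) ^ 2 = s * (s + 1) + (s + 1) := by ring
    omega
  rw [e4, e6, e8, e12, hs, h1, Nat.add_sub_cancel]
  refine ⟨?_, ?_, ?_, ?_⟩
  · have : (s + 1) ^ 2 = (s + 1 + 1) * s + 1 := by ring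
    omega
  · have : (s + 1) ^ 3 = ((s + 1) ^ 2 + (s + 1) + 1) * s + 1 := by ring
    omega
  · have : (s + 1) ^ 4 = ((s + 1) ^ 2 + 1) * ((s + 1 + 1) * s) + 1 := by ring
    omega
  · have : (s + 1) ^ 6 = (s * (s + 1) + 1) * ((s + 1 + 1) * (((s + 1) ^ 2 + (s + 1) + 1) * s)) + 1 := by ring
    omega

theorem card_fac : q ^ 24 * (q ^ 2 - 1) * (q ^ 6 - 1) * (q ^ 8 - 1) * (q ^ 12 - 1) =
    q ^ 24 * (q ^ 2 - 1) ^ 4 * (q ^ 2 + 1) ^ 2 * (q ^ 4 + q ^ 2 + 1) ^ 2 * (q ^ 4 + 1) * (q ^ 4 - q ^ 2 + 1) := by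
  obtain ⟨-, h6, h8, h12⟩ := fac hq
  rw [h6, h8, h12]
  ring

variable {p : ℕ} (hp : p.Prime)

theorem od_two (h : p ∣ q ^ 2 - 1) : od q p ∣ 2 := od_dvd hq h

theorem od_four (h : p ∣ q ^ 2 + 1) : od q p ∣ 4 := od_dvd hq (by rw [(fac hq).1]; exact h.mul_right _)

theorem od_six (h : p ∣ q ^ 4 + q ^ 2 + 1) : od q p ∣ 6 := od_dvd hq (by rw [(fac hq).2.1]; exact h.mul_right _)

theorem od_eight (h : p ∣ q ^ 4 + 1) : od q p ∣ 8 := od_dvd hq (by rw [(fac hq).2.2.1]; exact h.mul_right _)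

theorem od_twelve (h : p ∣ q ^ 4 - q ^ 2 + 1) : od q p ∣ 12 :=
  od_dvd hq (by rw [(fac hq).2.2.2]; exact h.mul_right _)

include hp

/-- the `p`-part of the order divides `D2` -/
theorem d2_full (hpq : ¬ p ∣ q) (ho : od q p = 3 ∨ od q p = 6 ∨ od q p = 12) :
    p ^ (q ^ 24 * (q ^ 2 - 1) * (q ^ 6 - 1) * (q ^ 8 - 1) * (q ^ 12 - 1)).factorization p ∣ D2 q := by
  refine pow_dvd_of hp (C := q ^ 22 * (q ^ 2 - 1) ^ 4 * (q ^ 2 + 1) ^ 2 * (q ^ 4 + 1)) ?_ ?_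
  · rw [card_fac hq, D2]; ring
  · intro h
    rcases hp.dvd_mul.1 h with h | h
    · rcases hp.dvd_mul.1 h with h | h
      · rcases hp.dvd_mul.1 h with h | h
        · exact hpq (hp.dvd_of_dvd_pow h)
        · have h1 := od_two hq (hp.dvd_of_dvd_pow h)
          rcases ho with h2 | h2 | h2 <;> rw [h2] at h1 <;> revert h1 <;> decide
      · have h1 := od_four hq (hp.dvd_of_dvd_pow h)
        rcases ho with h2 | h2 | h2 <;> rw [h2] at h1 <;> revert h1 <;> decide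
    · have h1 := od_eight hq h
      rcases ho with h2 | h2 | h2 <;> rw [h2] at h1 <;> revert h1 <;> decide

/-- the `p`-part of the order divides `D3` -/
theorem d3_full (hpq : ¬ p ∣ q) (ho : od q p = 4 ∨ od q p = 8 ∨ od q p = 12) :
    p ^ (q ^ 24 * (q ^ 2 - 1) * (q ^ 6 - 1) * (q ^ 8 - 1) * (q ^ 12 - 1)).factorization p ∣ D3 q := by
  refine pow_dvd_of hp (C := q ^ 21 * (q ^ 2 - 1) ^ 4 * (q ^ 4 + q ^ 2 + 1) ^ 2) ?_ ?_
  · rw [card_fac hq, D3]; ring
  · intro h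
    rcases hp.dvd_mul.1 h with h | h
    · rcases hp.dvd_mul.1 h with h | h
      · exact hpq (hp.dvd_of_dvd_pow h)
      · have h1 := od_two hq (hp.dvd_of_dvd_pow h)
        rcases ho with h2 | h2 | h2 <;> rw [h2] at h1 <;> revert h1 <;> decide
    · have h1 := od_six hq (hp.dvd_of_dvd_pow h)
      rcases ho with h2 | h2 | h2 <;> rw [h2] at h1 <;> revert h1 <;> decide

/-- order `8`: the `p`-part of the order divides `q⁴ + 1` -/
theorem p8_full (hpq : ¬ p ∣ q) (ho : od q p = 8) :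
    p ^ (q ^ 24 * (q ^ 2 - 1) * (q ^ 6 - 1) * (q ^ 8 - 1) * (q ^ 12 - 1)).factorization p ∣ q ^ 4 + 1 := by
  refine pow_dvd_of hp (C := q ^ 24 * (q ^ 2 - 1) ^ 4 * (q ^ 2 + 1) ^ 2 * (q ^ 4 + q ^ 2 + 1) ^ 2 *
    (q ^ 4 - q ^ 2 + 1)) ?_ ?_
  · rw [card_fac hq]; ring
  · intro h
    rcases hp.dvd_mul.1 h with h | h
    · rcases hp.dvd_mul.1 h with h | h
      · rcases hp.dvd_mul.1 h with h | h
        · rcases hp.dvd_mul.1 h with h | h
          · exact hpq (hp.dvd_of_dvd_pow h)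
          · have h1 := od_two hq (hp.dvd_of_dvd_pow h)
            rw [ho] at h1; revert h1; decide
        · have h1 := od_four hq (hp.dvd_of_dvd_pow h)
          rw [ho] at h1; revert h1; decide
      · have h1 := od_six hq (hp.dvd_of_dvd_pow h)
        rw [ho] at h1; revert h1; decide
    · have h1 := od_twelve hq h
      rw [ho] at h1; revert h1; decide

/-- order `12`: the `p`-part of the order divides `q⁴ - q² + 1` -/
theorem p12_full (hpq : ¬ p ∣ q) (ho : od q p = 12) :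
    p ^ (q ^ 24 * (q ^ 2 - 1) * (q ^ 6 - 1) * (q ^ 8 - 1) * (q ^ 12 - 1)).factorization p ∣ q ^ 4 - q ^ 2 + 1 := by
  refine pow_dvd_of hp (C := q ^ 24 * (q ^ 2 - 1) ^ 4 * (q ^ 2 + 1) ^ 2 * (q ^ 4 + q ^ 2 + 1) ^ 2 *
    (q ^ 4 + 1)) ?_ ?_
  · rw [card_fac hq]; ring
  · intro h
    rcases hp.dvd_mul.1 h with h | h
    · rcases hp.dvd_mul.1 h with h | h
      · rcases hp.dvd_mul.1 h with h | h
        · rcases hp.dvd_mul.1 h with h | h
          · exact hpq (hp.dvd_of_dvd_pow h)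
          · have h1 := od_two hq (hp.dvd_of_dvd_pow h)
            rw [ho] at h1; revert h1; decide
        · have h1 := od_four hq (hp.dvd_of_dvd_pow h)
          rw [ho] at h1; revert h1; decide
      · have h1 := od_six hq (hp.dvd_of_dvd_pow h)
        rw [ho] at h1; revert h1; decide
    · have h1 := od_eight hq h
      rw [ho] at h1; revert h1; decide

end arith

/-- **The row of `F₄(q)`** for the group itself. -/
theorem row_group {F : Type} [Field F] [Fintype F] {r : ℕ} [CharP F r] [IsSimpleGroup ↥(chevF4.group F)]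
    {p : ℕ} [hpf : Fact p.Prime] (hp : 5 ≤ p) (hpr : p ≠ r) (hd : p ∣ Nat.card ↥(chevF4.group F)) :
    H387.VO.Row p ↥(chevF4.group F) := by
  have hpp := hpf.out
  have := finite_group (K := F) chevF4
  obtain ⟨f, hr, hK⟩ := FiniteField.card F r
  have hrf : Fact r.Prime := ⟨hr⟩
  have hf0 : (f : ℕ) ≠ 0 := f.ne_zero
  have hcF : Nat.card F = r ^ (f : ℕ) := by rw [Nat.card_eq_fintype_card, hK]
  have hcard := Cfsg.Agent.S1062.result hK
  have hq2 := Cfsg.Agent.H35.ExcIdx.two_le hr hf0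
  have hq1 : 1 ≤ r ^ (f : ℕ) := by omega
  have D := data_F4_2 hr hf0 hK
  have := D.fin
  have hex : IsExceptionalChevChar r ↥(chevF4.group F) :=
    ⟨F, inferInstance, inferInstance, inferInstance, Or.inr (Or.inl ⟨MulEquiv.refl _⟩)⟩
  have hkill : Kill ↥(chevF4.group F) r := RowClass.kill_of_lie hr
    (Or.inr (Or.inr (Or.inr (Or.inr (Or.inr (Or.inr (Or.inl hex)))))))
  have hpq : ¬ p ∣ r ^ (f : ℕ) := fun h => hpr ((Nat.prime_dvd_prime_iff_eq hpp hr).1 (hpp.dvd_of_dvd_pow h))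
  -- the characters
  have hdz2 : od (r ^ (f : ℕ)) p = 3 ∨ od (r ^ (f : ℕ)) p = 6 ∨ od (r ^ (f : ℕ)) p = 12 →
      H665.NoPQ.HasDZ p ↥(chevF4.group F) := by
    intro ho
    obtain ⟨ψ, hψ, -, hψ1⟩ := exists_d2 D.rgd D.gg cartan_eq hq2 D.size (D2 (r ^ (f : ℕ))) (cast_D2 hq1 ℚ)
    refine hasDZ_of_degree hψ hψ1 ?_
    rw [hcard]
    exact d2_full hq1 hpp hpq ho
  have hdz3 : od (r ^ (f : ℕ)) p = 4 ∨ od (r ^ (f : ℕ)) p = 8 ∨ od (r ^ (f : ℕ)) p = 12 →
      H665.NoPQ.HasDZ p ↥(chevF4.group F) := by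
    intro ho
    obtain ⟨ψ, hψ, -, hψ1⟩ := exists_d3 D.rgd D.gg cartan_eq hq2 D.size (D3 (r ^ (f : ℕ))) (cast_D3 hq1 ℚ)
    refine hasDZ_of_degree hψ hψ1 ?_
    rw [hcard]
    exact d3_full hq1 hpp hpq ho
  -- elements of order `p r`
  have hpr' : ∀ x u : ↥(chevF4.group F), orderOf x = p → orderOf u = r → Commute x u →
      p ∣ orderOf (x * u) ∧ orderOf (x * u) ≠ p := by
    intro x u hx hu hc
    have h1 : orderOf (x * u) = p * r := by
      rw [hc.orderOf_mul_eq_mul_orderOf_of_coprime (by rw [hx, hu]; exact (Nat.coprime_primes hpp hr).2 hpr), hx, hu]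
    refine ⟨by rw [h1]; exact Dvd.intro _ rfl, fun h => ?_⟩
    rw [h1] at h
    have h2 : p * r = p * 1 := by rw [mul_one]; exact h
    exact hr.one_lt.ne' (Nat.eq_of_mul_eq_mul_left hpp.pos h2)
  let cs : CoxeterSystem CoxeterMatrix.F₄ CoxeterMatrix.F₄.Group := CoxeterMatrix.F₄.toCoxeterSystem
  have hn1 : ∀ {m : ℕ}, m ≠ 1 → od (Nat.card F) p = m → ¬ p ∣ Nat.card F - 1 := by
    intro m hm h3 h4
    have h5 : od (Nat.card F) p ∣ 1 := od_dvd Nat.card_pos (by rw [pow_one]; exact h4)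
    rw [h3] at h5
    exact hm (Nat.dvd_one.1 h5)
  have h12 : p ∣ Nat.card F ^ 2 - 1 → TwoVan p ↥(chevF4.group F) := fun h =>
    twoVan_of_three hpF4 (a := chevF4.simple 0) (b := chevF4.simple 2) (c := 47) (by decide +kernel)
      (by decide +kernel) (by decide +kernel) (by decide +kernel) (by decide +kernel) (by decide +kernel)
      hpp hp h hr hkill
  -- the case `p² ∤ |K|`
  by_cases hfac : (Nat.card ↥(chevF4.group F)).factorization p = 1
  · exact Or.inl hfac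
  have hfac2 : 2 ≤ (Nat.card ↥(chevF4.group F)).factorization p := by
    have h1 : (Nat.card ↥(chevF4.group F)).factorization p ≠ 0 := by
      intro h0
      rw [Nat.factorization_eq_zero_iff] at h0
      rcases h0 with h0 | h0 | h0
      · exact h0 hpp
      · exact h0 hd
      · exact Nat.card_pos.ne' h0
    omega
  have hod := od_F4 hpp hd
  right; right
  rcases hod with h | h | h | h | h | h | h | h
  · rw [hcF] at h
    exact absurd h hpq
  · exact h12 (dvd_of_od_dvd Nat.card_pos (by rw [h]; exact one_dvd _))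
  · exact h12 (dvd_of_od_dvd Nat.card_pos (by rw [h]))
  · obtain ⟨x, u, -, hx, hu, -, hc, -⟩ := exists_comm_row f4T cs inv_F4 one_ne_zero AdjF4.hA AdjF4.lt_nroots AdjF4.row3
      hpp (hn1 (by decide) h) (dvd3 hpp h) (p := r)
    obtain ⟨h1, h2⟩ := hpr' x u hx hu hc
    exact twoVan_of_hasDZ_orderOf (hdz2 (by rw [← hcF]; exact Or.inl h)) h1 h2
  · obtain ⟨x, u, -, hx, hu, -, hc, -⟩ := exists_comm_row f4T cs inv_F4 one_ne_zero AdjF4.hA AdjF4.lt_nroots AdjF4.row4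
      hpp (hn1 (by decide) h) (dvd4 hpp h) (p := r)
    obtain ⟨h1, h2⟩ := hpr' x u hx hu hc
    exact twoVan_of_hasDZ_orderOf (hdz3 (by rw [← hcF]; exact Or.inl h)) h1 h2
  · obtain ⟨x, u, -, hx, hu, -, hc, -⟩ := exists_comm_row f4T cs inv_F4 one_ne_zero AdjF4.hA AdjF4.lt_nroots AdjF4.row6
      hpp (hn1 (by decide) h) (dvd6 hpp h) (p := r)
    obtain ⟨h1, h2⟩ := hpr' x u hx hu hc
    exact twoVan_of_hasDZ_orderOf (hdz2 (by rw [← hcF]; exact Or.inr (Or.inl h))) h1 h2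
  · have h1 : p ^ 2 ∣ Nat.card F ^ 4 + 1 := by
      refine (pow_dvd_pow p hfac2).trans ?_
      rw [hcard, hcF]
      exact p8_full hq1 hpp hpq (by rw [← hcF]; exact h)
    obtain ⟨x, hx⟩ := exists_of_chain f4T inv_F4 AdjF4.hA AdjF4.chain8 AdjF4.tor8_8 (F := F) (m := p ^ 2)
      (pow_pos hpp.pos _) (by rw [pv8]; exact_mod_cast Int.natCast_dvd_natCast.2 h1)
    refine twoVan_of_hasDZ_orderOf (hdz3 (by rw [← hcF]; exact Or.inr (Or.inl h))) (x := x) ?_ ?_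
    · rw [hx]; exact dvd_pow_self p two_ne_zero
    · rw [hx]
      intro h2
      have := hpp.two_le
      nlinarith
  · have h1 : p ^ 2 ∣ Nat.card F ^ 4 - Nat.card F ^ 2 + 1 := by
      refine (pow_dvd_pow p hfac2).trans ?_
      rw [hcard, hcF]
      exact p12_full hq1 hpp hpq (by rw [← hcF]; exact h)
    obtain ⟨x, hx⟩ := exists_of_chain f4T inv_F4 AdjF4.hA AdjF4.chain12 AdjF4.tor12_12 (F := F) (m := p ^ 2)
      (pow_pos hpp.pos _) (by
        rw [pv12]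
        have h2 := Int.natCast_dvd_natCast.2 h1
        rwa [cast_sub ℤ Nat.card_pos] at h2)
    refine twoVan_of_hasDZ_orderOf (hdz2 (by rw [← hcF]; exact Or.inr (Or.inr h))) (x := x) ?_ ?_
    · rw [hx]; exact dvd_pow_self p two_ne_zero
    · rw [hx]
      intro h2
      have := hpp.two_le
      nlinarith

/-- **The row of `F₄(q)`.** -/
theorem row_F4 {S : Type*} [Group S] [Finite S] [IsSimpleGroup S] {F : Type} [Field F] [Fintype F]
    (e : S ≃* ↥(chevF4.group F)) {r : ℕ} [CharP F r] {p : ℕ} [Fact p.Prime] (hp : 5 ≤ p) (hpr : p ≠ r)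
    (hd : p ∣ Nat.card S) : H387.VO.Row p S := by
  have : IsSimpleGroup ↥(chevF4.group F) := e.isSimpleGroup_congr.1 inferInstance
  rw [Nat.card_congr e.toEquiv] at hd
  exact (row_group hp hpr hd).mulEquiv e.symm

end Cfsg.Agent.H654.Van.F4
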