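import Cfsg.Agent.H42.Deg.F4Two
import Cfsg.Agent.H42.Tw.F4Asm
import Cfsg.Agent.H378.TwRowsF
import Cfsg.Agent.H720.PV.Tools
import Cfsg.Agent.H620.RowClass

/-!
# S4987: the row of `²F₄(q)`, `q > 2` (helper654)
-/

set_option autoImplicit false
set_option linter.unusedSectionVars false

namespace Cfsg.Agent.H654.Van.TwF4

open Cfsg Cfsg.Lie
open Cfsg.Agent.H387.VO Cfsg.Agent.H620 Cfsg.Agent.H720.PV Cfsg.Agent.H42.Deg.F4Two

universe u

/-- if `N = d * C` and `p ∤ C` then the `p`-part of `N` divides `d` -/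
theorem pow_dvd_of {N d C p : ℕ} (hp : p.Prime) (hN : N = d * C) (hC : ¬ p ∣ C) :
    p ^ N.factorization p ∣ d := by
  have h1 : p ^ N.factorization p ∣ d * C := by rw [← hN]; exact Nat.ordProj_dvd N p
  exact (Nat.Coprime.pow_left _ ((Nat.Prime.coprime_iff_not_dvd hp).2 hC)).dvd_of_dvd_mul_right h1

section Minus

open Cfsg.Agent.KFacts.TwF4 Cfsg.Agent.TitsThree.RankTwoZ

/-- `p ∣ q - 1`: elements of order `2 p` and `4 p` -/
theorem exists_minus {F : Type*} [Field F] [Finite F] {σ : F →+* F} {G : Type*} [Group G] (S : Full σ G) {p : ℕ}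
    (hp : p.Prime) (hp2 : p ≠ 2) (hd : p ∣ Nat.card Fˣ) :
    ∃ x y : G, orderOf x = p * 2 ∧ orderOf y = p * 4 := by
  have : Fact p.Prime := ⟨hp⟩
  have h2 := S.two
  have h11 : (1 : F) + 1 = 0 := by rw [one_add_one_eq_two]; exact h2
  obtain ⟨d, hd⟩ := exists_prime_orderOf_dvd_card' (G := Fˣ) p hd
  have ho : orderOf (S.h 1 d) = p := by
    refine orderOf_eq_prime ?_ ?_
    · rw [Arc.h_pow S, ← hd, one_pow, pow_orderOf_eq_one, S.h_one]
    · intro h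
      rw [← S.h_one] at h
      have h3 := (S.h_inj _ _ _ _ h).2
      rw [h3, orderOf_one] at hd
      exact hp.one_lt.ne hd
  have hc : ∀ a u, Commute (S.h 1 d) (S.e 0 a u) := by
    intro a u
    have h3 := S.h_e 1 d 0 a u
    rw [chE_zero, Units.val_one, map_one, one_mul, one_mul, one_mul] at h3
    exact mul_inv_eq_iff_eq_mul.1 h3
  have o2 : orderOf (S.e 0 0 1) = 2 := by
    refine orderOf_eq_prime ?_ ?_
    · rw [pow_two, S.e_mul, zero_mul, add_zero, add_zero, h11, S.e_zero]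
    · intro h
      exact one_ne_zero (S.e_eq_one h).2
  have sq : S.e 0 1 0 ^ 2 = S.e 0 0 1 := by
    rw [pow_two, S.e_mul, map_one, mul_one, add_zero, zero_add, h11]
  have o4 : orderOf (S.e 0 1 0) = 4 := by
    have h3 : orderOf (S.e 0 1 0) = 2 ^ (1 + 1) := by
      refine orderOf_eq_prime_pow ?_ ?_
      · rw [pow_one, sq]
        intro h
        exact one_ne_zero (S.e_eq_one h).2
      · rw [pow_succ, pow_mul, pow_one, sq, ← o2, pow_orderOf_eq_one]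
    exact h3
  have hcop : Nat.Coprime p 2 := (Nat.coprime_primes hp Nat.prime_two).2 hp2
  refine ⟨S.h 1 d * S.e 0 0 1, S.h 1 d * S.e 0 1 0, ?_, ?_⟩
  · rw [(hc 0 1).orderOf_mul_eq_mul_orderOf_of_coprime (by rw [ho, o2]; exact hcop), ho, o2]
  · rw [(hc 1 0).orderOf_mul_eq_mul_orderOf_of_coprime (by rw [ho, o4]; exact Nat.Coprime.pow_right 2 hcop), ho, o4]

end Minus

theorem od_lt {q q' : ℕ} (h2 : 2 ≤ q) (h : q < q') : od q < od q' := by
  unfold od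
  have h1 : q ^ 12 < q' ^ 12 := Nat.pow_lt_pow_left h (by norm_num)
  have h3 : (q - 1) * (q ^ 3 + 1) * (q ^ 4 - 1) * (q ^ 6 + 1) ≤
      (q' - 1) * (q' ^ 3 + 1) * (q' ^ 4 - 1) * (q' ^ 6 + 1) := by
    have e1 : q - 1 ≤ q' - 1 := by omega
    have e2 : q ^ 4 - 1 ≤ q' ^ 4 - 1 := Nat.sub_le_sub_right (Nat.pow_le_pow_left h.le 4) 1
    gcongr
  have h4 : 0 < (q - 1) * (q ^ 3 + 1) * (q ^ 4 - 1) * (q ^ 6 + 1) := by
    have e1 : 0 < q - 1 := by omega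
    have e2 : 0 < q ^ 4 - 1 := by
      have : 2 ^ 4 ≤ q ^ 4 := Nat.pow_le_pow_left h2 4
      omega
    positivity
  calc q ^ 12 * (q - 1) * (q ^ 3 + 1) * (q ^ 4 - 1) * (q ^ 6 + 1) =
        q ^ 12 * ((q - 1) * (q ^ 3 + 1) * (q ^ 4 - 1) * (q ^ 6 + 1)) := by ring
    _ < q' ^ 12 * ((q - 1) * (q ^ 3 + 1) * (q ^ 4 - 1) * (q ^ 6 + 1)) := Nat.mul_lt_mul_of_pos_right h1 h4
    _ ≤ q' ^ 12 * ((q' - 1) * (q' ^ 3 + 1) * (q' ^ 4 - 1) * (q' ^ 6 + 1)) := Nat.mul_le_mul_left _ h3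
    _ = _ := by ring

theorem od_inj {q q' : ℕ} (h2 : 2 ≤ q) (h2' : 2 ≤ q') (h : od q = od q') : q = q' := by
  rcases lt_trichotomy q q' with h1 | h1 | h1
  · exact absurd h (od_lt h2 h1).ne
  · exact h1
  · exact absurd h (od_lt h2' h1).ne'

section arith

variable {k p : ℕ} (hp : p.Prime) (h5 : 5 ≤ p)

theorem fac3 (k : ℕ) : (k + 1) ^ 3 + 1 = (k + 2) * (k * (k + 1) + 1) := by ring
theorem fac6 (k : ℕ) : (k + 1) ^ 6 + 1 = ((k + 1) ^ 2 + 1) * ((k + 1) ^ 2 * (k * (k + 2)) + 1) := by ring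

include hp

/-- the prime divisors -/
theorem cases_prime (hpq : ¬ p ∣ k + 1) (hd : p ∣ od (k + 1)) :
    p ∣ k ∨ p ∣ k + 2 ∨ p ∣ k * (k + 1) + 1 ∨ p ∣ (k + 1) ^ 2 + 1 ∨ p ∣ (k + 1) ^ 2 * (k * (k + 2)) + 1 := by
  unfold od at hd
  rw [eq4, Nat.add_sub_cancel, fac3, fac6] at hd
  have h0 : ¬ p ∣ (k + 1) ^ 12 := fun h => hpq (hp.dvd_of_dvd_pow h)
  rcases hp.dvd_mul.1 hd with hd | hd
  · rcases hp.dvd_mul.1 hd with hd | hd
    · rcases hp.dvd_mul.1 hd with hd | hd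
      · rcases hp.dvd_mul.1 hd with hd | hd
        · exact absurd hd h0
        · exact Or.inl hd
      · rcases hp.dvd_mul.1 hd with hd | hd
        · exact Or.inr (Or.inl hd)
        · exact Or.inr (Or.inr (Or.inl hd))
    · rcases hp.dvd_mul.1 hd with hd | hd
      · rcases hp.dvd_mul.1 hd with hd | hd
        · exact Or.inl hd
        · exact Or.inr (Or.inl hd)
      · exact Or.inr (Or.inr (Or.inr (Or.inl hd)))
  · rcases hp.dvd_mul.1 hd with hd | hd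
    · exact Or.inr (Or.inr (Or.inr (Or.inl hd)))
    · exact Or.inr (Or.inr (Or.inr (Or.inr hd)))

/-- `p ∤ q (q² - 1)` -/
theorem full_i (hpq : ¬ p ∣ k + 1) (h1 : ¬ p ∣ k) (h2 : ¬ p ∣ k + 2) :
    p ^ (od (k + 1)).factorization p ∣ ((k + 1) ^ 3 + 1) * ((k + 1) ^ 2 + 1) * ((k + 1) ^ 6 + 1) := by
  refine pow_dvd_of hp (C := (k + 1) ^ 12 * k * (k * (k + 2))) ?_ ?_
  · unfold od
    rw [eq4, Nat.add_sub_cancel]
    ring
  · intro h
    simp only [hp.dvd_mul] at h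
    have h0 : ¬ p ∣ (k + 1) ^ 12 := fun h => hpq (hp.dvd_of_dvd_pow h)
    tauto

/-- `p ∤ q (q - 1) (q² + 1)` -/
theorem full_j (hpq : ¬ p ∣ k + 1) (h1 : ¬ p ∣ k) (h2 : ¬ p ∣ (k + 1) ^ 2 + 1) :
    p ^ (od (k + 1)).factorization p ∣ ((k + 1) ^ 3 + 1) * (k + 2) * ((k + 1) ^ 6 + 1) := by
  refine pow_dvd_of hp (C := (k + 1) ^ 12 * k * (k * ((k + 1) ^ 2 + 1))) ?_ ?_
  · unfold od
    rw [eq4, Nat.add_sub_cancel]
    ring
  · intro h
    simp only [hp.dvd_mul] at h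
    have h0 : ¬ p ∣ (k + 1) ^ 12 := fun h => hpq (hp.dvd_of_dvd_pow h)
    tauto

end arith

theorem dz_of_dvd {G : Type*} [Group G] [Finite G] {p : ℕ} [Fact p.Prime] (χ : IrrCharacter G)
    (h : p ^ (Nat.card G).factorization p ∣ charDegree (χ : G → ℂ)) : H665.NoPQ.HasDZ p G :=
  hasDZ_of_degree χ.2 (Cfsg.Agent.Blocks.Basic.irr_one_eq_charDegree χ.2) h

/-- the row of the group itself -/
theorem row_group {K : Type} [Field K] [Fintype K] {m : ℕ} (hm : 1 ≤ m) (hK : Fintype.card K = 2 ^ (2 * m + 1))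
    [Finite ↥(twistedF4 K (2 ^ m))] [IsSimpleGroup ↥(twistedF4 K (2 ^ m))] {p : ℕ} [hpf : Fact p.Prime] (hp : 5 ≤ p)
    (hd : p ∣ Nat.card ↥(twistedF4 K (2 ^ m))) : H387.VO.Row p ↥(twistedF4 K (2 ^ m)) := by
  have hpp := hpf.out
  have hiso : Lie.Iso2F4 ↥(twistedF4 K (2 ^ m)) := ⟨K, inferInstance, inferInstance, m, hm, hK, ⟨MulEquiv.refl _⟩⟩
  have h2p : Fact (Nat.Prime 2) := ⟨Nat.prime_two⟩
  have hkill : Kill ↥(twistedF4 K (2 ^ m)) 2 := RowClass.kill_of_hasSplit (Cfsg.Agent.H42.Deg.F4.hasSplit hiso)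
  obtain ⟨n, k, a, b, i, j, χ₁, χ₂, χ₃, hq, hk, hc, hi, hj, d₁, d₂, -⟩ := exists_three hiso
  -- `k + 1 = q`
  have h8 : 2 ^ 3 ≤ 2 ^ (2 * m + 1) := Nat.pow_le_pow_right (by norm_num) (by omega)
  have hkq : k + 1 = 2 ^ (2 * m + 1) := by
    refine od_inj (by omega) (by omega) ?_
    rw [← hc, Cfsg.Agent.S1068.result hK]
    rfl
  have hcK : Nat.card K = k + 1 := by rw [Nat.card_eq_fintype_card, hK, hkq]
  -- the case `p² ∤ |K|`
  by_cases hfac : (Nat.card ↥(twistedF4 K (2 ^ m))).factorization p = 1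
  · exact Or.inl hfac
  have hfac2 : 2 ≤ (Nat.card ↥(twistedF4 K (2 ^ m))).factorization p := by
    have h1 : (Nat.card ↥(twistedF4 K (2 ^ m))).factorization p ≠ 0 := by
      intro h0
      rw [Nat.factorization_eq_zero_iff] at h0
      rcases h0 with h0 | h0 | h0
      · exact h0 hpp
      · exact h0 hd
      · exact Nat.card_pos.ne' h0
    omega
  right; right
  have hp2 : p ≠ 2 := by omega
  have hpq : ¬ p ∣ k + 1 := by
    intro h
    rw [hkq] at h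
    exact hp2 ((Nat.prime_dvd_prime_iff_eq hpp Nat.prime_two).1 (hpp.dvd_of_dvd_pow h))
  have hno : ∀ c : ℕ, 0 < c → c < 5 → ¬ p ∣ c := fun c h0 h1 h => by
    have := Nat.le_of_dvd h0 h
    omega
  -- elements of order `2 p`
  have hadj : Cfsg.Agent.H94.PG.Adj ↥(twistedF4 K (2 ^ m)) p 2 →
      ∃ x : ↥(twistedF4 K (2 ^ m)), p ∣ orderOf x ∧ orderOf x ≠ p := by
    rintro ⟨-, -, -, x, y, hx, hy, hxy⟩
    have h1 : orderOf (x * y) = p * 2 := by
      rw [hxy.orderOf_mul_eq_mul_orderOf_of_coprime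
        (by rw [hx, hy]; exact (Nat.coprime_primes hpp Nat.prime_two).2 hp2), hx, hy]
    exact ⟨x * y, by rw [h1]; exact Dvd.intro _ rfl, by omega⟩
  -- elements of order `p ^ a`
  have hcyc : (∀ P : Subgroup ↥(twistedF4 K (2 ^ m)), IsPGroup p P → IsCyclic P) →
      ∃ x : ↥(twistedF4 K (2 ^ m)), p ∣ orderOf x ∧ orderOf x ≠ p := by
    intro h
    obtain ⟨P⟩ : Nonempty (Sylow p ↥(twistedF4 K (2 ^ m))) := inferInstance
    have := h P P.2
    obtain ⟨g, hg⟩ := IsCyclic.exists_generator (α := ↥(P : Subgroup ↥(twistedF4 K (2 ^ m))))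
    have h1 : orderOf g = Nat.card P := orderOf_eq_card_of_forall_mem_zpowers hg
    have h3 : orderOf (g : ↥(twistedF4 K (2 ^ m))) = p ^ (Nat.card ↥(twistedF4 K (2 ^ m))).factorization p := by
      rw [Subgroup.orderOf_coe, h1, P.card_eq_multiplicity]
    refine ⟨g, ?_, ?_⟩
    · rw [h3]
      exact dvd_pow_self p (by omega)
    · rw [h3]
      intro h4
      have h5 : p ^ (Nat.card ↥(twistedF4 K (2 ^ m))).factorization p = p ^ 1 := by rw [h4, pow_one]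
      have := Nat.pow_right_injective hpp.two_le h5
      omega
  have dz1 : ¬ p ∣ k → ¬ p ∣ k + 2 → H665.NoPQ.HasDZ p ↥(twistedF4 K (2 ^ m)) := fun h1 h2 =>
    dz_of_dvd χ₁ (by
      rw [hc]
      exact (full_i hpp hpq h1 h2).trans ((dvd_i hq hk hi).trans ((Dvd.intro _ rfl).trans d₁)))
  have dz2 : ¬ p ∣ k → ¬ p ∣ (k + 1) ^ 2 + 1 → H665.NoPQ.HasDZ p ↥(twistedF4 K (2 ^ m)) := fun h1 h2 =>
    dz_of_dvd χ₂ (by
      rw [hc]
      exact (full_j hpp hpq h1 h2).trans ((dvd_j hq hk hj).trans ((Dvd.intro _ rfl).trans d₂)))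
  by_cases h1 : p ∣ k
  · -- `p ∣ q - 1`
    obtain ⟨φ, hφ⟩ := Cfsg.Agent.ChevalleyStructure.TwF4.TwistedFix.exists_rln hK
    have h2 := Cfsg.Agent.ChevalleyStructure.TwF4.Twisted.charP_two hK
    obtain ⟨x, y, hx, hy⟩ := exists_minus (Cfsg.Agent.KFacts.TwF4.Inst.full hK hφ) hpp hp2 (by
      rw [Nat.card_units, hcK, Nat.add_sub_cancel]
      exact h1)
    refine twoVan_of_kill (p := p) (r := 2) hkill (x := x) (y := y) ?_ ?_ ?_ ?_ ?_
    · rw [hx]; exact Dvd.intro _ rfl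
    · rw [hx]; exact Dvd.intro_left _ rfl
    · rw [hy]; exact Dvd.intro _ rfl
    · rw [hy]; exact Dvd.dvd.mul_left (by norm_num) p
    · rw [hx, hy]; omega
  rw [hc] at hd
  by_cases h2 : p ∣ k + 2
  · -- `p ∣ q + 1`
    have h3 : ¬ p ∣ (k + 1) ^ 2 + 1 := by
      intro h
      have e : (k + 1) ^ 2 + 1 = (k + 2) * k + 2 := by ring
      rw [e] at h
      exact hno 2 (by norm_num) (by norm_num) ((Nat.dvd_add_right (h2.mul_right _)).1 h)
    obtain ⟨x, hx, hx'⟩ := hadj (Cfsg.Agent.H378.TwRowsF.adj_plus hK hpp hp2 (by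
      rw [hcK, show 1 + (k + 1) = k + 2 by omega]; exact h2))
    exact twoVan_of_hasDZ_orderOf (dz2 h1 h3) hx hx'
  by_cases h3 : p ∣ (k + 1) ^ 2 + 1
  · obtain ⟨x, hx, hx'⟩ := hadj (Cfsg.Agent.H378.TwRowsF.adj_sq hK hpp hp2 (by
      rw [hcK, show 1 + (k + 1) * (k + 1) = (k + 1) ^ 2 + 1 by ring]; exact h3))
    exact twoVan_of_hasDZ_orderOf (dz1 h1 h2) hx hx'
  · have h4 := cases_prime hpp hpq hd
    have h5 : p ∣ (2 ^ (2 * m + 1)) ^ 2 - 2 ^ (2 * m + 1) + 1 ∨ p ∣ (2 ^ (2 * m + 1)) ^ 4 - (2 ^ (2 * m + 1)) ^ 2 + 1 := by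
      rw [← hkq]
      have e1 : (k + 1) ^ 2 - (k + 1) + 1 = k * (k + 1) + 1 := by
        have : (k + 1) ^ 2 = k * (k + 1) + (k + 1) := by ring
        omega
      have e2 : (k + 1) ^ 4 - (k + 1) ^ 2 + 1 = (k + 1) ^ 2 * (k * (k + 2)) + 1 := by
        have : (k + 1) ^ 4 = (k + 1) ^ 2 * (k * (k + 2)) + (k + 1) ^ 2 := by ring
        omega
      rw [e1, e2]
      rcases h4 with h4 | h4 | h4 | h4 | h4
      · exact absurd h4 h1
      · exact absurd h4 h2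
      · exact Or.inl h4
      · exact absurd h4 h3
      · exact Or.inr h4
    obtain ⟨x, hx, hx'⟩ := hcyc fun P hP => Cfsg.Agent.H42.Tw.cyclic_twF4 hK hp h5 hP
    exact twoVan_of_hasDZ_orderOf (dz1 h1 h2) hx hx'

/-- **The row of `²F₄(q)`, `q > 2`.** -/
theorem row_2F4 {S : Type*} [Group S] [Finite S] [IsSimpleGroup S] (h : Lie.Iso2F4 S) {p : ℕ} [Fact p.Prime]
    (hp : 5 ≤ p) (hd : p ∣ Nat.card S) : H387.VO.Row p S := by
  obtain ⟨K, _, _, m, hm, hK, ⟨e⟩⟩ := h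
  have : Finite ↥(twistedF4 K (2 ^ m)) := Finite.of_equiv S e.toEquiv
  have : IsSimpleGroup ↥(twistedF4 K (2 ^ m)) := e.isSimpleGroup_congr.1 inferInstance
  rw [Nat.card_congr e.toEquiv] at hd
  exact (row_group hm hK hp hd).mulEquiv e.symm

end Cfsg.Agent.H654.Van.TwF4
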