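import Cfsg.Agent.OddHalf.LongSL.Chev
import Cfsg.Agent.Nodes.RGDFold
import Cfsg.Agent.H387.VO.Main
import Cfsg.Agent.H620.Kill
import Cfsg.Agent.S0242

/-!
# Three commuting root `SL₂` in the Chevalley groups (helper654, S4987)

* `ph hp hr F` : `SL₂(F) → D.group F` for the root `r`; `ph_eq_one` : kernel in `± 1`;
* `Co D r s` : the root groups of `± r` and `± s` commute (decidable); `ph_comm`;
* `twoVan_of_three` : three pairwise commuting roots, `p ≥ 5` a prime divisor of `q² - 1`, `Kill` for the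
  characteristic: `TwoVan p`.
-/

set_option autoImplicit false
set_option linter.unusedSectionVars false

namespace Cfsg.Agent.H654.Van

open Cfsg Cfsg.Lie Cfsg.Lie.ChevalleyDatum
open Cfsg.Agent.ChevalleyStructure Cfsg.Agent.ChevalleyStructure.Elts Cfsg.Agent.ChevalleyStructure.NPerm
open Cfsg.Agent.ChevalleyStructure.CoxeterGeom Cfsg.Agent.Tits.Roots
open Cfsg.Agent.Nodes.Reps Cfsg.Agent.Nodes.BNOf Cfsg.Agent.Nodes.RGDChev Cfsg.Agent.Nodes.Bruhat
open Cfsg.Agent.H387.VO Cfsg.Agent.H620 Cfsg.Agent.OddHalf.LongSL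

universe u

variable {D : ChevalleyDatum} {l : ℕ} {M : CoxeterMatrix (Fin l)} (hp : IsType D l M)

/-- the homomorphism `SL₂(F) → D.group F` of the root `r` -/
noncomputable def ph {r : ℕ} (hr : r < D.nroots) (F : Type u) [Field F] :
    Matrix.SpecialLinearGroup (Fin 2) F →* ↥(D.group F) :=
  (SL2Hom.phi (SL2All.good_of_mem D hp.inList r hr) F).codRestrict (D.group F) (fun g => by
    have h1 := SL2Hom.range_phi (F := F) (SL2All.good_of_mem D hp.inList r hr)
    have h2 : D.rootSubgroup F r ⊔ D.rootSubgroup F (D.neg r) ≤ D.group F := by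
      refine sup_le ?_ ?_ <;> intro g hg <;>
        obtain ⟨t, rfl⟩ := (mem_rootSubgroup_iff hp.inList _ g).1 hg <;> exact xG_mem_group hp.inList _ t
    rw [← h1] at h2
    exact h2 ⟨g, rfl⟩)

variable {F : Type u} [Field F]

theorem ph_up {r : ℕ} (hr : r < D.nroots) (t : F) : (ph hp hr F (SL2Hom.up t) : GL D.Idx F) = xG hp.inList r t :=
  Units.ext (SL2Hom.phi_upper _ _ t rfl)

theorem ph_lo {r : ℕ} (hr : r < D.nroots) (t : F) :
    (ph hp hr F (SL2Hom.lo t) : GL D.Idx F) = xG hp.inList (D.neg r) t :=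
  Units.ext (SL2Hom.phi_lower _ _ t rfl)

theorem ph_eq_one {r : ℕ} (hr : r < D.nroots) {g : Matrix.SpecialLinearGroup (Fin 2) F} (h : ph hp hr F g = 1) :
    g = 1 ∨ g = -1 :=
  Chev.phi_eq_one (SL2All.good_of_mem D hp.inList r hr) (congrArg Subtype.val h)

/-- the root groups of `± r` and `± s` commute -/
def Co (D : ChevalleyDatum) (r s : ℕ) : Bool :=
  decide (r < D.nroots) && decide (s < D.nroots) && decide (D.neg r < D.nroots) && decide (D.neg s < D.nroots) &&
  [(r, s), (r, D.neg s), (D.neg r, s), (D.neg r, D.neg s)].all fun v =>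
    v.2 != v.1 && v.2 != D.neg v.1 && (D.commTerms v.1 v.2).isEmpty

theorem Co.comm {r s : ℕ} (h : Co D r s = true) :
    ∀ v ∈ [(r, s), (r, D.neg s), (D.neg r, s), (D.neg r, D.neg s)], ∀ t u : F,
      Commute (xG hp.inList v.1 t) (xG hp.inList v.2 u) := by
  unfold Co at h
  rw [Bool.and_eq_true, Bool.and_eq_true, Bool.and_eq_true, Bool.and_eq_true, List.all_eq_true] at h
  obtain ⟨⟨⟨⟨h1, h2⟩, h3⟩, h4⟩, h5⟩ := h
  have h1 := of_decide_eq_true h1
  have h2 := of_decide_eq_true h2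
  have h3 := of_decide_eq_true h3
  have h4 := of_decide_eq_true h4
  intro v hv t u
  have h6 := h5 v hv
  rw [Bool.and_eq_true, Bool.and_eq_true] at h6
  obtain ⟨⟨h7, h8⟩, h9⟩ := h6
  have hv1 : v.1 < D.nroots := by
    simp only [List.mem_cons, List.not_mem_nil, or_false] at hv
    rcases hv with rfl | rfl | rfl | rfl <;> assumption
  have hv2 : v.2 < D.nroots := by
    simp only [List.mem_cons, List.not_mem_nil, or_false] at hv
    rcases hv with rfl | rfl | rfl | rfl <;> assumption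
  exact Cfsg.Agent.Nodes.RGDFold.commute_of_nil hp hv1 hv2 (by simpa using h7) (by simpa using h8)
    (List.isEmpty_iff.1 h9) t u

theorem ph_comm {r s : ℕ} (hr : r < D.nroots) (hs : s < D.nroots) (h : Co D r s = true)
    (g g' : Matrix.SpecialLinearGroup (Fin 2) F) : Commute (ph hp hr F g) (ph hp hs F g') := by
  have hc := Co.comm (F := F) hp h
  have key : ∀ u : ↥(D.group F), (∀ t, Commute u (ph hp hs F (SL2Hom.up t))) →
      (∀ t, Commute u (ph hp hs F (SL2Hom.lo t))) → ∀ g', Commute u (ph hp hs F g') := by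
    intro u h1 h2 g'
    exact commute_range (ph hp hs F) h1 h2 _ ⟨g', rfl⟩
  refine key _ (fun t => ?_) (fun t => ?_) g'
  · refine (commute_range (ph hp hr F) (fun s' => ?_) (fun s' => ?_) _ ⟨g, rfl⟩).symm
    · refine (Subtype.ext ?_ : _ = _)
      rw [Subgroup.coe_mul, Subgroup.coe_mul, ph_up, ph_up]
      exact (hc (r, s) (by simp) s' t).symm
    · refine (Subtype.ext ?_ : _ = _)
      rw [Subgroup.coe_mul, Subgroup.coe_mul, ph_up, ph_lo]
      exact (hc (D.neg r, s) (by simp) s' t).symm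
  · refine (commute_range (ph hp hr F) (fun s' => ?_) (fun s' => ?_) _ ⟨g, rfl⟩).symm
    · refine (Subtype.ext ?_ : _ = _)
      rw [Subgroup.coe_mul, Subgroup.coe_mul, ph_lo, ph_up]
      exact (hc (r, D.neg s) (by simp) s' t).symm
    · refine (Subtype.ext ?_ : _ = _)
      rw [Subgroup.coe_mul, Subgroup.coe_mul, ph_lo, ph_lo]
      exact (hc (D.neg r, D.neg s) (by simp) s' t).symm

theorem orderOf_ph {r : ℕ} (hr : r < D.nroots) {ℓ : ℕ} (hℓ : ℓ.Prime) {g : Matrix.SpecialLinearGroup (Fin 2) F}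
    (hg : orderOf g = ℓ) (h2 : ℓ ≠ 2 ∨ ∀ x : F, -x = x) : orderOf (ph hp hr F g) = ℓ := by
  have : Fact ℓ.Prime := ⟨hℓ⟩
  refine orderOf_eq_prime ?_ ?_
  · rw [← map_pow, ← hg, pow_orderOf_eq_one, map_one]
  · intro h
    rcases ph_eq_one hp hr h with rfl | rfl
    · rw [orderOf_one] at hg
      exact hℓ.one_lt.ne hg
    · rcases h2 with h2 | h2
      · have h3 : orderOf (-1 : Matrix.SpecialLinearGroup (Fin 2) F) ∣ 2 :=
          orderOf_dvd_of_pow_eq_one (by rw [neg_one_sq])
        rw [hg] at h3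
        exact h2 ((Nat.prime_dvd_prime_iff_eq hℓ Nat.prime_two).1 h3)
      · have h3 : (-1 : Matrix.SpecialLinearGroup (Fin 2) F) = 1 := by
          apply Subtype.ext
          rw [Matrix.SpecialLinearGroup.coe_neg]
          ext i j
          exact h2 _
        rw [h3, orderOf_one] at hg
        exact hℓ.one_lt.ne hg

omit [Field F] in
theorem card_SL2 {F : Type*} [Field F] [Finite F] : Nat.card (Matrix.SpecialLinearGroup (Fin 2) F) =
    Nat.card F * (Nat.card F ^ 2 - 1) := by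
  have := Fintype.ofFinite F
  rw [Nat.card_eq_fintype_card (α := F)]
  have h1 := S0242.result (F := F) rfl 2 (by norm_num)
  have hq : 2 ≤ Fintype.card F := Fintype.one_lt_card
  rw [Fin.prod_univ_two] at h1
  have h3 : Fintype.card F ^ 2 - Fintype.card F ^ 1 = (Fintype.card F - 1) * Fintype.card F := by
    rw [Nat.sub_mul, one_mul, pow_one, pow_two]
  simp only [Fin.val_zero, Fin.val_one, pow_zero] at h1
  rw [h3] at h1
  have h4 : (Fintype.card F - 1) * Nat.card (Matrix.SpecialLinearGroup (Fin 2) F) =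
      (Fintype.card F - 1) * (Fintype.card F * (Fintype.card F ^ 2 - 1)) := by rw [h1]; ring
  exact Nat.eq_of_mul_eq_mul_left (by omega) h4

/-- elements of prime order -/
theorem exists_prime [Finite F] {r : ℕ} (hr : r < D.nroots) {ℓ : ℕ} (hℓ : ℓ.Prime)
    (hd : ℓ ∣ Nat.card F * (Nat.card F ^ 2 - 1)) (h2 : ℓ ≠ 2 ∨ ∀ x : F, -x = x) :
    ∃ g : Matrix.SpecialLinearGroup (Fin 2) F, orderOf (ph hp hr F g) = ℓ := by
  have : Fact ℓ.Prime := ⟨hℓ⟩
  obtain ⟨g, hg⟩ := exists_prime_orderOf_dvd_card' (G := Matrix.SpecialLinearGroup (Fin 2) F) ℓ (by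
    rw [card_SL2]
    exact hd)
  exact ⟨g, orderOf_ph hp hr hℓ hg h2⟩

/-- an element of order `2` or `4` -/
theorem exists_four {r : ℕ} (hr : r < D.nroots) :
    ∃ g : Matrix.SpecialLinearGroup (Fin 2) F, orderOf (ph hp hr F g) = 2 ∨ orderOf (ph hp hr F g) = 4 := by
  obtain ⟨g, hg⟩ : ∃ g : Matrix.SpecialLinearGroup (Fin 2) F, (g : Matrix (Fin 2) (Fin 2) F) = !![0, 1; -1, 0] :=
    ⟨⟨!![0, 1; -1, 0], by simp [Matrix.det_fin_two]⟩, rfl⟩
  have h1 : g ≠ 1 := by
    intro h
    have := congrArg (fun g : Matrix.SpecialLinearGroup (Fin 2) F => (g : Matrix (Fin 2) (Fin 2) F) 0 1) h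
    rw [hg] at this
    simp at this
  have h1' : g ≠ -1 := by
    intro h
    have := congrArg (fun g : Matrix.SpecialLinearGroup (Fin 2) F => (g : Matrix (Fin 2) (Fin 2) F) 0 1) h
    rw [hg] at this
    simp at this
  have h4 : g ^ 4 = 1 := by
    apply Subtype.ext
    rw [Matrix.SpecialLinearGroup.coe_pow, hg]
    ext i j
    fin_cases i <;> fin_cases j <;> simp [pow_succ, Matrix.mul_apply, Fin.sum_univ_two]
  refine ⟨g, ?_⟩
  have h5 : orderOf (ph hp hr F g) ∣ 2 ^ 2 := by
    apply orderOf_dvd_of_pow_eq_one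
    rw [← map_pow]
    show ph hp hr F (g ^ 4) = 1
    rw [h4, map_one]
  have h6 : orderOf (ph hp hr F g) ≠ 1 := by
    rw [Ne, orderOf_eq_one_iff]
    intro h
    rcases ph_eq_one hp hr h with h | h
    · exact h1 h
    · exact h1' h
  obtain ⟨k, hk, e⟩ := (Nat.dvd_prime_pow Nat.prime_two).1 h5
  interval_cases k
  · exact absurd e h6
  · exact Or.inl e
  · exact Or.inr e

include hp in
/-- **Three pairwise commuting root groups `SL₂`.** -/
theorem twoVan_of_three [Finite F] {a b c : ℕ} (ha : a < D.nroots) (hb : b < D.nroots) (hc : c < D.nroots)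
    (hab : Co D a b = true) (hac : Co D a c = true) (hbc : Co D b c = true) {p : ℕ} (hpp : p.Prime) (hp5 : 5 ≤ p)
    (hd : p ∣ Nat.card F ^ 2 - 1) {r : ℕ} (hr : r.Prime) [CharP F r] (hk : Kill ↥(D.group F) r) :
    TwoVan p ↥(D.group F) := by
  have : Fintype F := Fintype.ofFinite F
  have : Fact r.Prime := ⟨hr⟩
  have hrq : r ∣ Nat.card F := by
    obtain ⟨n, -, hn⟩ := FiniteField.card F r
    rw [Nat.card_eq_fintype_card, hn]
    exact dvd_pow_self r n.ne_zero
  have hq1 : 1 < Nat.card F := Finite.one_lt_card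
  have hpr : p ≠ r := by
    rintro rfl
    have h1 : p ∣ Nat.card F ^ 2 := dvd_pow hrq two_ne_zero
    have h2 : p ∣ 1 := by
      have h3 := Nat.dvd_sub h1 hd
      rwa [Nat.sub_sub_self (Nat.one_le_pow _ _ (by omega))] at h3
    exact hpp.one_lt.ne' (Nat.dvd_one.1 h2)
  have hneg : r = 2 → ∀ x : F, -x = x := by
    rintro rfl x
    exact CharTwo.neg_eq x
  obtain ⟨g1, h1⟩ := exists_prime hp ha hpp (Dvd.dvd.mul_left hd _) (Or.inl (by omega))
  obtain ⟨g2, h2⟩ := exists_prime hp hc hr (Dvd.dvd.mul_right hrq _) (by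
    by_cases h : r = 2
    · exact Or.inr (hneg h)
    · exact Or.inl h)
  obtain ⟨g3, h3, h4, h5⟩ : ∃ g : Matrix.SpecialLinearGroup (Fin 2) F, (orderOf (ph hp hb F g)).Coprime p ∧
      (orderOf (ph hp hb F g)).Coprime r ∧ orderOf (ph hp hb F g) ≠ 1 := by
    by_cases h : r = 2
    · obtain ⟨g, hg⟩ := exists_prime (F := F) hp hb Nat.prime_three (by
        obtain ⟨n, -, hn⟩ := FiniteField.card F r
        have h6 : Nat.card F ^ 2 % 3 = 1 := by
          rw [Nat.card_eq_fintype_card, hn, h, ← pow_mul, mul_comm, pow_mul, Nat.pow_mod]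
          norm_num
        have h7 : 0 < Nat.card F ^ 2 := by positivity
        refine Dvd.dvd.mul_left ?_ _
        omega) (Or.inl (by norm_num))
      refine ⟨g, ?_, ?_, ?_⟩
      · rw [hg]; exact (Nat.coprime_primes Nat.prime_three hpp).2 (by omega)
      · rw [hg, h]; norm_num
      · rw [hg]; norm_num
    · obtain ⟨g, hg⟩ := exists_four (F := F) hp hb
      have h2p : Nat.Coprime 2 p := (Nat.coprime_primes Nat.prime_two hpp).2 (by omega)
      have h2r : Nat.Coprime 2 r := (Nat.coprime_primes Nat.prime_two hr).2 (Ne.symm h)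
      rcases hg with hg | hg
      · exact ⟨g, by rw [hg]; exact h2p, by rw [hg]; exact h2r, by rw [hg]; norm_num⟩
      · refine ⟨g, ?_, ?_, by rw [hg]; norm_num⟩
        · rw [hg]; exact Nat.Coprime.pow_left 2 h2p
        · rw [hg]; exact Nat.Coprime.pow_left 2 h2r
  have c1 := ph_comm hp ha hc hac g1 g2
  have c2 := ph_comm hp ha hb hab g1 g3
  have c3 := ph_comm hp hb hc hbc g3 g2
  have o1 : orderOf (ph hp ha F g1 * ph hp hc F g2) = p * r := by
    rw [c1.orderOf_mul_eq_mul_orderOf_of_coprime (by rw [h1, h2]; exact (Nat.coprime_primes hpp hr).2 hpr), h1, h2]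
  have c4 : Commute (ph hp ha F g1 * ph hp hc F g2) (ph hp hb F g3) := c2.mul_left c3.symm
  have o2 : orderOf (ph hp ha F g1 * ph hp hc F g2 * ph hp hb F g3) = p * r * orderOf (ph hp hb F g3) := by
    rw [c4.orderOf_mul_eq_mul_orderOf_of_coprime (by rw [o1]; exact Nat.Coprime.mul_left h3.symm h4.symm), o1]
  have hx1 := hk.vz (x := ph hp ha F g1 * ph hp hc F g2) (by rw [o1]; exact Dvd.intro_left _ rfl)
  have hx2 := hk.vz (x := ph hp ha F g1 * ph hp hc F g2 * ph hp hb F g3)
    (by rw [o2]; exact Dvd.dvd.mul_right (Dvd.intro_left _ rfl) _)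
  refine TwoVan.of_order ?_ ?_ hx1 hx2 ?_
  · rw [o1]; exact Dvd.intro _ rfl
  · rw [o2]; exact Dvd.dvd.mul_right (Dvd.intro _ rfl) _
  · rw [o1, o2]
    intro h
    have h6 : p * r * 1 = p * r * orderOf (ph hp hb F g3) := by rw [mul_one]; exact h
    exact h5 (Nat.eq_of_mul_eq_mul_left (Nat.mul_pos hpp.pos hr.pos) h6).symm

end Cfsg.Agent.H654.Van
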